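import Mathlib
import Groth.Agent.H23.StalkIdeal
import Groth.Agent.H23.SpClosed
import Groth.Agent.ModPairLib.BlowUp
import Groth.Agent.RegConormal.Split
import Groth.Agent.BlowUpLib.Glue
import Groth.Agent.Colength.Main

/-!
# Stalks and lengths of ideal sheaves with finite support
-/

set_option autoImplicit false
set_option linter.style.haveILetI false
set_option backward.isDefEq.respectTransparency false
set_option backward.isDefEq.respectTransparency.types false

universe u

open CategoryTheory CategoryTheory.Limits AlgebraicGeometry TopologicalSpace IsLocalRing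
open Groth.Agent.H23.StalkIdeal

noncomputable section

namespace Groth.Agent.PointBlow

variable {X Y : Scheme.{u}}

theorem le_of_sI {I J : X.IdealSheafData} (h : ∀ x, sI I x ≤ sI J x) : I ≤ J := fun U =>
  CDivEq.le_of_stk _ _ U fun x hx => by rw [← sI_eq, ← sI_eq]; exact h x

theorem sI_mono {I J : X.IdealSheafData} (h : I ≤ J) (x : X) : sI I x ≤ sI J x := by
  obtain ⟨_, ⟨U, hU, rfl⟩, hxU, -⟩ :=
    X.isBasis_affineOpens.exists_subset_of_mem_open (Set.mem_univ x) isOpen_univ
  rw [sI_eq I ⟨U, hU⟩ hxU, sI_eq J ⟨U, hU⟩ hxU]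
  exact Ideal.map_mono (h _)

theorem mem_support_iff (I : X.IdealSheafData) (x : X) : x ∈ (I.support : Set X) ↔ sI I x ≠ ⊤ := by
  obtain ⟨_, ⟨U, hU, rfl⟩, hxU, -⟩ :=
    X.isBasis_affineOpens.exists_subset_of_mem_open (Set.mem_univ x) isOpen_univ
  rw [sI_eq I ⟨U, hU⟩ hxU]
  exact CDivEq.mem_support_iff I ⟨U, hU⟩ hxU

theorem sI_eq_top {I : X.IdealSheafData} {x : X} (h : x ∉ (I.support : Set X)) : sI I x = ⊤ :=
  not_not.1 fun h' => h ((mem_support_iff I x).2 h')

theorem sI_mul (I J : X.IdealSheafData) (x : X) : sI (I * J) x = sI I x * sI J x := by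
  rw [sI, sI, sI, ModPairLib.ideal_comap_mul, tI, Scheme.IdealSheafData.ideal_mul, Pi.mul_apply,
    Ideal.map_mul]
  rfl

theorem comap_pow (I : Y.IdealSheafData) (f : X ⟶ Y) (n : ℕ) : (I ^ n).comap f = I.comap f ^ n := by
  induction n with
  | zero => rw [pow_zero, pow_zero, Scheme.IdealSheafData.one_eq_top, Scheme.IdealSheafData.comap_top]; rfl
  | succ n ih => rw [pow_succ, pow_succ, ModPairLib.ideal_comap_mul, ih]

theorem sI_pow (I : X.IdealSheafData) (x : X) (n : ℕ) : sI (I ^ n) x = sI I x ^ n := by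
  induction n with
  | zero => rw [pow_zero, pow_zero, Scheme.IdealSheafData.one_eq_top, sI_top, Ideal.one_eq_top]
  | succ n ih => rw [pow_succ, pow_succ, sI_mul, ih]

theorem eq_centre {R : CommRingCat.{u}} (K : (Spec R).IdealSheafData) : K = BlowUpLib.centre (tI K) := by
  refine Scheme.IdealSheafData.ext_of_isAffine ?_
  rw [BlowUpLib.centre_top, tI, Ideal.map_map, ← CommRingCat.hom_comp]
  erw [Iso.hom_inv_id, CommRingCat.hom_id, Ideal.map_id]

theorem tI_centre {R : CommRingCat.{u}} (I : Ideal R) : tI (BlowUpLib.centre I) = I := by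
  rw [tI, BlowUpLib.centre_top, Ideal.map_map, ← CommRingCat.hom_comp, Iso.inv_hom_id, CommRingCat.hom_id,
    Ideal.map_id]

theorem isEffCartier_pow {E : X.IdealSheafData} (hE : BlowUp.IsEffCartierIdeal E) (n : ℕ) :
    BlowUp.IsEffCartierIdeal (E ^ n) := by
  induction n with
  | zero => rw [pow_zero, Scheme.IdealSheafData.one_eq_top]; exact BlowUpLib.isEffCartier_top X
  | succ n ih => rw [pow_succ]; exact ModPairLib.isEffCartier_mul ih hE

theorem ker_stalkMap (I : X.IdealSheafData) (p : I.subscheme) :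
    RingHom.ker (I.subschemeι.stalkMap p).hom = sI I (I.subschemeι p) := by
  obtain ⟨_, ⟨U, hU, rfl⟩, hxU, -⟩ :=
    X.isBasis_affineOpens.exists_subset_of_mem_open (Set.mem_univ (I.subschemeι p)) isOpen_univ
  rw [sI_eq I ⟨U, hU⟩ hxU, RegConormal.ker_stalkMap_eq_map I.subschemeι p ⟨U, hU⟩ hxU
      (IsZariskiLocalAtTarget.restrict (P := @IsClosedImmersion) inferInstance U),
    Scheme.IdealSheafData.ker_subschemeι_app]

theorem ker_stalkMap_closed {Z : Scheme.{u}} (i : Z ⟶ X) [IsClosedImmersion i] (p : Z) :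
    RingHom.ker (i.stalkMap p).hom = sI i.ker (i p) := by
  obtain ⟨_, ⟨U, hU, rfl⟩, hxU, -⟩ :=
    X.isBasis_affineOpens.exists_subset_of_mem_open (Set.mem_univ (i p)) isOpen_univ
  rw [sI_eq i.ker ⟨U, hU⟩ hxU, RegConormal.ker_stalkMap_eq_map i p ⟨U, hU⟩ hxU
      (IsZariskiLocalAtTarget.restrict (P := @IsClosedImmersion) inferInstance U),
    CDivEq.stk, Scheme.Hom.ker_apply]

/-- The length at a point of the closed subscheme of an ideal sheaf. -/
def len (I : X.IdealSheafData) (x : X) : ℕ∞ :=
  Module.length (X.presheaf.stalk x) (X.presheaf.stalk x ⧸ sI I x)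

theorem len_eq_zero {I : X.IdealSheafData} {x : X} (h : x ∉ (I.support : Set X)) : len I x = 0 := by
  rw [len, sI_eq_top h]
  haveI : Subsingleton (X.presheaf.stalk x ⧸ (⊤ : Ideal (X.presheaf.stalk x))) :=
    Ideal.Quotient.subsingleton_iff.2 rfl
  exact Module.length_eq_zero

theorem support_len (I : X.IdealSheafData) : Function.support (len I) ⊆ (I.support : Set X) :=
  fun x hx => not_not.1 fun h => hx (len_eq_zero h)

/-- The total length. -/
def colen (I : X.IdealSheafData) : ℕ∞ := ∑ᶠ x, len I x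

theorem colen_subscheme (I : X.IdealSheafData) :
    ∑ᶠ p : I.subscheme, Module.length (I.subscheme.presheaf.stalk p) (I.subscheme.presheaf.stalk p) =
      colen I := by
  have hinj : Function.Injective I.subschemeι := I.subschemeι.isEmbedding.injective
  rw [colen, ← finsum_mem_univ (len I), ← finsum_mem_inter_support_eq (len I) (Set.range I.subschemeι) Set.univ,
    finsum_mem_range hinj]
  · refine finsum_congr fun p => ?_
    rw [H23.SpClosed.length_stalk_closed I.subschemeι p, ker_stalkMap]
    rfl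
  · rw [Set.univ_inter, Set.inter_eq_right, Scheme.IdealSheafData.range_subschemeι]
    exact support_len I

theorem len_congr (f : X ⟶ Y) (I : Y.IdealSheafData) (x : X) [IsIso (f.stalkMap x)] :
    len (I.comap f) x = len I (f x) := by
  let e := (asIso (f.stalkMap x)).commRingCatIsoToRingEquiv
  letI := e.toRingHom.toAlgebra
  have hmap : sI (I.comap f) x = (sI I (f x)).map e.toRingHom := sI_comap I f x
  have hs : Function.Surjective (algebraMap (Y.presheaf.stalk (f x)) (X.presheaf.stalk x)) := e.surjective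
  rw [len, len, ← Module.length_eq_of_surjective (R := X.presheaf.stalk x) (S := Y.presheaf.stalk (f x)) hs]
  let q := Ideal.quotientEquiv (sI I (f x)) (sI (I.comap f) x) e hmap
  exact (LinearEquiv.ofBijective
    ({ toFun := q, map_add' := map_add q, map_smul' := fun r y => by
        obtain ⟨y, rfl⟩ := Ideal.Quotient.mk_surjective y
        show q (Ideal.Quotient.mk _ (r * y)) = Ideal.Quotient.mk _ (e r) * q (Ideal.Quotient.mk _ y)
        simp [q] } : (Y.presheaf.stalk (f x) ⧸ sI I (f x)) →ₗ[Y.presheaf.stalk (f x)]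
          (X.presheaf.stalk x ⧸ sI (I.comap f) x)) q.bijective).length_eq.symm

/-- The ideal at a point whose generizations avoid the support contains a power of the maximal ideal. -/
theorem exists_pow_le [IsLocallyNoetherian X] {I : X.IdealSheafData} {x : X}
    (hI : ∀ y ∈ (I.support : Set X), IsClosed ({y} : Set X)) :
    ∃ n : ℕ, maximalIdeal (X.presheaf.stalk x) ^ n ≤ sI I x := by
  refine Ideal.exists_pow_le_of_le_radical_of_fg (I := maximalIdeal _) ?_ (IsNoetherian.noetherian _)
  rw [Ideal.radical_eq_sInf]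
  refine le_sInf fun P hP => ?_
  haveI := hP.2
  have hmem : X.fromSpecStalk x (⟨P, hP.2⟩ : PrimeSpectrum (X.presheaf.stalk x)) ∈ (I.support : Set X) := by
    refine (mem_support_iff I _).2 fun htop => ?_
    have h1 := congrArg (Ideal.map ((X.fromSpecStalk x).stalkMap (⟨P, hP.2⟩ : PrimeSpectrum (X.presheaf.stalk x))).hom) htop
    rw [← sI_comap, Ideal.map_top] at h1
    refine (mem_support_iff (I.comap (X.fromSpecStalk x)) _).1 ?_ h1
    rw [eq_centre (I.comap (X.fromSpecStalk x))]
    rw [show tI (I.comap (X.fromSpecStalk x)) = sI I x from rfl, show ((BlowUpLib.centre (sI I x)).support : Set ↥(Spec (X.presheaf.stalk x))) = _ from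
      Scheme.IdealSheafData.coe_support_ofIdealTop _, Spec_zeroLocus]
    intro a ha
    obtain ⟨c, hc, hca⟩ := (Ideal.mem_map_iff_of_surjective _
      (ConcreteCategory.bijective_of_isIso (Scheme.ΓSpecIso (X.presheaf.stalk x)).inv).2).1 ha
    rw [← (ConcreteCategory.bijective_of_isIso (Scheme.ΓSpecIso (X.presheaf.stalk x)).inv).1 hca]
    exact hP.1 hc
  have hsp : X.fromSpecStalk x (⟨P, hP.2⟩ : PrimeSpectrum (X.presheaf.stalk x)) ⤳ x := by
    have h : X.fromSpecStalk x (⟨P, hP.2⟩ : PrimeSpectrum (X.presheaf.stalk x)) ∈ Set.range (X.fromSpecStalk x) :=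
      ⟨_, rfl⟩
    rwa [Scheme.range_fromSpecStalk] at h
  have hx := hsp.mem_closed (hI _ hmem) rfl
  have := (X.fromSpecStalk x).isEmbedding.injective
    ((Set.mem_singleton_iff.1 hx).symm.trans (Scheme.fromSpecStalk_closedPoint).symm)
  exact (congrArg PrimeSpectrum.asIdeal this).ge

theorem len_ne_top [IsLocallyNoetherian X] {I : X.IdealSheafData}
    (hI : ∀ y ∈ (I.support : Set X), IsClosed ({y} : Set X)) (x : X) : len I x ≠ ⊤ := by
  by_cases hx : x ∈ (I.support : Set X)
  swap
  · rw [len_eq_zero hx]; exact ENat.zero_ne_top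
  obtain ⟨n, hn⟩ := exists_pow_le (x := x) hI
  haveI := Colength.isArtinianRing_quot hn (le_maximalIdeal ((mem_support_iff I x).1 hx))
  have hs : Function.Surjective (algebraMap (X.presheaf.stalk x) (X.presheaf.stalk x ⧸ sI I x)) :=
    Ideal.Quotient.mk_surjective
  rw [len, Module.length_eq_of_surjective (R := X.presheaf.stalk x ⧸ sI I x) (S := X.presheaf.stalk x) hs]
  exact Module.length_ne_top

end Groth.Agent.PointBlow
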