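import Mathlib
import Groth.Agent.PointBlow.Basic
import Groth.Agent.BlowP1.Line
import Groth.Agent.H23.DiagReg
import Groth.Agent.S1622

/-!
# Closed points of the blow-up of a regular surface point
-/

set_option autoImplicit false
set_option linter.style.haveILetI false
set_option backward.isDefEq.respectTransparency false
set_option backward.isDefEq.respectTransparency.types false

universe u

open CategoryTheory CategoryTheory.Limits AlgebraicGeometry TopologicalSpace IsLocalRing
open Groth.Agent.H23.StalkIdeal

noncomputable section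

namespace Groth.Agent.PointBlow

variable {A : Type u} [CommRing A] {X : Scheme.{u}} (b : X ⟶ Spec (CommRingCat.of A))

theorem isProper_local [IsNoetherianRing A] {I : Ideal A}
    (hb : BlowUp.IsBlowUp b (BlowUpLib.centre I)) : IsProper b := by
  haveI : IsNoetherianRing (CommRingCat.of A) := ‹IsNoetherianRing A›
  exact BlowUpLib.isProper_of_isBlowUp (C := BlowUpLib.centre I) hb fun V => by
    haveI : IsNoetherianRing Γ(Spec (CommRingCat.of A), V.1) := IsLocallyNoetherian.component_noetherian V
    exact IsNoetherian.noetherian _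

theorem mem_support_centre_iff [IsLocalRing A] (t : ↥(Spec (CommRingCat.of A))) :
    t ∈ ((BlowUpLib.centre (maximalIdeal A)).support : Set ↥(Spec (CommRingCat.of A))) ↔ t = closedPoint A := by
  rw [show ((BlowUpLib.centre (maximalIdeal A)).support : Set ↥(Spec (CommRingCat.of A))) = _ from
      Scheme.IdealSheafData.coe_support_ofIdealTop _, Spec_zeroLocus]
  have hbij := ConcreteCategory.bijective_of_isIso (Scheme.ΓSpecIso (CommRingCat.of A)).inv
  refine Iff.trans (PrimeSpectrum.mem_zeroLocus t _) ⟨fun h => ?_, ?_⟩
  · refine PrimeSpectrum.ext (le_antisymm (le_maximalIdeal t.2.ne_top) fun a ha => h ?_)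
    exact Ideal.mem_map_of_mem _ ha
  · rintro rfl a ha
    obtain ⟨c, hc, hca⟩ := (Ideal.mem_map_iff_of_surjective _ hbij.2).1 ha
    rw [← hbij.1 hca]
    exact hc

theorem mem_exceptional_iff [IsLocalRing A] (z : X) :
    z ∈ (((BlowUpLib.centre (maximalIdeal A)).comap b).support : Set X) ↔ b z = closedPoint A := by
  rw [Scheme.IdealSheafData.support_comap]
  exact mem_support_centre_iff (b z)

theorem map_closed [IsLocalRing A] [IsProper b] {z : X} (hz : IsClosed ({z} : Set X)) :
    b z = closedPoint A := by
  have h := b.isClosedMap _ hz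
  rw [Set.image_singleton] at h
  exact (Set.mem_singleton_iff.1 ((IsLocalRing.specializes_closedPoint (b z)).mem_closed h rfl)).symm

theorem nonempty_exceptional [IsRegularLocalRing A] (hA : ringKrullDim A = 2)
    (hb : BlowUp.IsBlowUp b (BlowUpLib.centre (maximalIdeal A))) :
    (BlowUpLib.centre (maximalIdeal A)).comap b ≠ ⊤ := by
  obtain ⟨-, -, k, hk, e, -⟩ := BlowP1.main hA b hb
  intro htop
  haveI := CurveCover.isIntegral_line k
  obtain ⟨p⟩ : Nonempty (CohB1.ProjSpace 1 k) := inferInstance
  have h1 : ((BlowUpLib.centre (maximalIdeal A)).comap b).subschemeι (e.hom p) ∈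
      (((BlowUpLib.centre (maximalIdeal A)).comap b).support : Set X) := by
    rw [← Scheme.IdealSheafData.range_subschemeι]; exact ⟨_, rfl⟩
  have h2 : (((BlowUpLib.centre (maximalIdeal A)).comap b).support : Set X) = ∅ := by
    rw [htop, Scheme.IdealSheafData.support_top]; rfl
  rw [h2] at h1
  exact h1

/-- Closed points of the blow-up are regular of dimension two. -/
theorem stalk_closed_of_blowUp [IsRegularLocalRing A] (hA : ringKrullDim A = 2)
    (hb : BlowUp.IsBlowUp b (BlowUpLib.centre (maximalIdeal A))) {z : X} (hz : IsClosed ({z} : Set X)) :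
    IsRegularLocalRing (X.presheaf.stalk z) ∧ ringKrullDim (X.presheaf.stalk z) = 2 := by
  haveI := isProper_local b hb
  haveI : IsNoetherianRing (CommRingCat.of A) := inferInstanceAs (IsNoetherianRing A)
  haveI : IsLocallyNoetherian X := LocallyOfFiniteType.isLocallyNoetherian b
  haveI hreg : IsRegularLocalRing (X.presheaf.stalk z) := (S1622.result A hA X b hb).2 z
  refine ⟨hreg, ?_⟩
  set E := (BlowUpLib.centre (maximalIdeal A)).comap b
  obtain ⟨y, rfl⟩ : z ∈ Set.range E.subschemeι := by
    rw [Scheme.IdealSheafData.range_subschemeι]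
    exact (mem_exceptional_iff b z).2 (map_closed b hz)
  obtain ⟨-, -, k, hk, e, -⟩ := BlowP1.main hA b hb
  haveI := CurveCover.isIntegral_line k
  haveI := CurveCover.isProper_line k
  have hy : IsClosed ({y} : Set E.subscheme) := by
    have := hz.preimage E.subschemeι.continuous
    rwa [← Set.image_singleton, E.subschemeι.isEmbedding.injective.preimage_image] at this
  have hw : IsClosed ({e.inv y} : Set (CohB1.ProjSpace 1 k)) := by
    have := hy.preimage e.hom.continuous
    have hset : e.hom ⁻¹' {y} = {e.inv y} := by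
      ext w
      constructor
      · intro h
        rw [Set.mem_singleton_iff, ← Set.mem_singleton_iff.1 h, ← Scheme.Hom.comp_apply, e.hom_inv_id]
        rfl
      · rintro rfl
        show e.hom (e.inv y) = y
        rw [← Scheme.Hom.comp_apply, e.inv_hom_id]
        rfl
    rwa [hset] at this
  have h1 : ringKrullDim ((CohB1.ProjSpace 1 k).presheaf.stalk (e.inv y)) = 1 := by
    simpa using H23.DiagReg.dim_stalk_closed (CohB1.ProjSpace 1 k ↘ Spec (CommRingCat.of k))
      (n := 1) (by exact_mod_cast CurveCover.dim_line k) hw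
  have h2 : ringKrullDim (E.subscheme.presheaf.stalk y) = 1 := by
    rw [ringKrullDim_eq_of_ringEquiv (asIso (e.inv.stalkMap y)).commRingCatIsoToRingEquiv] at h1
    exact h1
  obtain ⟨g, hg, hgS⟩ := exists_gen hb.1 (E.subschemeι y)
  have h3 : ringKrullDim (X.presheaf.stalk (E.subschemeι y) ⧸ Ideal.span {g}) = 1 := by
    rw [← hgS, ← ker_stalkMap, ringKrullDim_eq_of_ringEquiv
      (RingHom.quotientKerEquivOfSurjective (E.subschemeι.stalkMap_surjective y))]
    exact h2
  have hgm : g ∈ maximalIdeal (X.presheaf.stalk (E.subschemeι y)) := by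
    refine (IsLocalRing.mem_maximalIdeal _).2 fun hu => (mem_support_iff E (E.subschemeι y)).1 ?_ ?_
    · rw [← Scheme.IdealSheafData.range_subschemeι]; exact ⟨y, rfl⟩
    · rw [show sI E (E.subschemeι y) = Ideal.span {g} from hgS, Ideal.span_singleton_eq_top]; exact hu
  rw [← ringKrullDim_quotient_span_singleton_succ_eq_ringKrullDim_of_mem_nonZeroDivisors hg hgm, h3]
  rfl

end Groth.Agent.PointBlow
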