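import Mathlib
import Groth.Agent.PointBlow.Local
import Groth.Agent.Colength.Weak
import Groth.Agent.Contraction7.Main
import Groth.Agent.H26.InterDiv
import Groth.Agent.H23.FFDescent
import Groth.Agent.ModPairLib.Quot
import Groth.Prelude.Def_ModelsG

/-!
# One blow-up at a regular surface point
-/

set_option autoImplicit false
set_option linter.style.haveILetI false
set_option linter.unusedSectionVars false
set_option backward.isDefEq.respectTransparency false
set_option backward.isDefEq.respectTransparency.types false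
set_option maxHeartbeats 800000

universe u

open CategoryTheory CategoryTheory.Limits AlgebraicGeometry TopologicalSpace IsLocalRing
open Groth.Agent.H23.StalkIdeal

noncomputable section

namespace Groth.Agent.PointBlow

variable {X X₁ : Scheme.{u}} {b : X₁ ⟶ X} {x : X} (hx : IsClosed ({x} : Set X))

/-- The ideal of a closed point. -/
abbrev pt : X.IdealSheafData := Scheme.IdealSheafData.vanishingIdeal ⟨{x}, hx⟩

theorem mem_support_pt (y : X) : y ∈ ((pt hx).support : Set X) ↔ y = x := by
  rw [Scheme.IdealSheafData.coe_support_vanishingIdeal]; rfl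

theorem mem_support_exc (z : X₁) : z ∈ (((pt hx).comap b).support : Set X₁) ↔ b z = x := by
  rw [Scheme.IdealSheafData.support_comap]; exact mem_support_pt hx (b z)

variable [IsLocallyNoetherian X] (hb : BlowUp.IsBlowUp b (pt hx))

include hb

theorem isProper_point : IsProper b :=
  BlowUpLib.isProper_of_isBlowUp (C := pt hx) hb fun U => by
    haveI : IsNoetherianRing Γ(X, U.1) := IsLocallyNoetherian.component_noetherian U
    exact IsNoetherian.noetherian _

theorem isIso_off : IsIso (b ∣_ (⟨{x}ᶜ, hx.isOpen_compl⟩ : X.Opens)) :=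
  haveI := isProper_point hx hb
  Contraction7.isIso_restrict_of_notMem b hx hb (V := ⟨{x}ᶜ, hx.isOpen_compl⟩) fun h => h rfl

theorem isIso_stalkMap_off {z : X₁} (h : b z ≠ x) : IsIso (b.stalkMap z) := by
  let V : X.Opens := ⟨{x}ᶜ, hx.isOpen_compl⟩
  haveI := isIso_off hx hb
  haveI : IsOpenImmersion ((b ⁻¹ᵁ V).ι ≫ b) := by
    rw [← morphismRestrict_ι]; infer_instance
  have h1 : IsIso (((b ⁻¹ᵁ V).ι ≫ b).stalkMap ⟨z, h⟩) := inferInstance
  rw [Scheme.Hom.stalkMap_comp] at h1
  exact @IsIso.of_isIso_comp_right _ _ _ _ _ (b.stalkMap z) ((b ⁻¹ᵁ V).ι.stalkMap ⟨z, h⟩) inferInstance h1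

theorem injective_off {z z' : X₁} (h : b z ≠ x) (he : b z = b z') : z = z' := by
  let V : X.Opens := ⟨{x}ᶜ, hx.isOpen_compl⟩
  haveI := isIso_off hx hb
  have h' : b z' ≠ x := he ▸ h
  have := (b ∣_ V).homeomorph.injective (a₁ := ⟨z, h⟩) (a₂ := ⟨z', h'⟩) (Subtype.ext (by
    refine Eq.trans ?_ (Eq.trans he ?_)
    · exact congrArg (fun f => f ⟨z, h⟩) (morphismRestrict_ι b V)
    · exact (congrArg (fun f => f ⟨z', h'⟩) (morphismRestrict_ι b V)).symm))
  exact congrArg Subtype.val this

theorem closed_off {y : X} (hy : IsClosed ({y} : Set X)) (hyx : y ≠ x) {z : X₁} (hz : b z = y) :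
    IsClosed ({z} : Set X₁) := by
  have : b ⁻¹' {y} = {z} := Set.eq_singleton_iff_unique_mem.2
    ⟨hz, fun w hw => (injective_off hx hb (hz ▸ hyx) (hz.trans hw.symm)).symm⟩
  exact this ▸ hy.preimage b.continuous

omit hb [IsLocallyNoetherian X] in
/-- The base change of `b` to the local scheme at `x`. -/
abbrev locTo (b : X₁ ⟶ X) (x : X) : pullback b (X.fromSpecStalk x) ⟶ X₁ := pullback.fst _ _

omit hb [IsLocallyNoetherian X] in
/-- The local blow-up. -/
abbrev locB (b : X₁ ⟶ X) (x : X) : pullback b (X.fromSpecStalk x) ⟶ Spec (X.presheaf.stalk x) :=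
  pullback.snd _ _

theorem blowUp_local : BlowUp.IsBlowUp (locB b x) (BlowUpLib.centre (maximalIdeal (X.presheaf.stalk x))) := by
  haveI : Flat (X.fromSpecStalk x) := H23.RatExtend.flat_fromSpecStalk X x
  have h := BlowUpLib.isBlowUp_of_isPullback (IsPullback.of_hasPullback b (X.fromSpecStalk x)).flip hb
  rwa [Contraction7.comap_fromSpecStalk hx] at h

theorem exists_lift {z : X₁} (h : b z = x) :
    ∃ z', locTo b x z' = z ∧ locB b x z' = closedPoint (X.presheaf.stalk x) :=
  Scheme.Pullback.exists_preimage_pullback (f := b) (g := X.fromSpecStalk x) z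
    (closedPoint (X.presheaf.stalk x)) (h.trans (Scheme.fromSpecStalk_closedPoint).symm)

theorem over_of_closedPoint {z' : ↥(pullback b (X.fromSpecStalk x))}
    (h : locB b x z' = closedPoint (X.presheaf.stalk x)) : b (locTo b x z') = x := by
  rw [← Scheme.Hom.comp_apply, pullback.condition, Scheme.Hom.comp_apply, h, Scheme.fromSpecStalk_closedPoint]

theorem isIso_stalkMap_loc (z' : ↥(pullback b (X.fromSpecStalk x))) : IsIso ((locTo b x).stalkMap z') := by
  haveI : Flat (X.fromSpecStalk x) := H23.RatExtend.flat_fromSpecStalk X x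
  exact H23.FFDescent.isIso_stalkMap_of_flat_of_isPreimmersion (locTo b x) z'

theorem closed_over {z' : ↥(pullback b (X.fromSpecStalk x))}
    (hz : IsClosed ({z'} : Set ↥(pullback b (X.fromSpecStalk x)))) : IsClosed ({locTo b x z'} : Set X₁) := by
  haveI := isProper_local (A := X.presheaf.stalk x) (locB b x) (blowUp_local hx hb)
  have hb' : b (locTo b x z') = x := over_of_closedPoint hx hb (map_closed (A := X.presheaf.stalk x) _ hz)
  refine isClosed_of_closure_subset fun w hw => ?_
  have hsp : locTo b x z' ⤳ w := specializes_iff_mem_closure.2 hw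
  have hwx : b w = x := Set.mem_singleton_iff.1 ((hb' ▸ hsp.map b.continuous).mem_closed hx rfl)
  obtain ⟨w', rfl, -⟩ := exists_lift hx hb hwx
  exact congrArg (locTo b x) (Set.mem_singleton_iff.1
    (((locTo b x).isEmbedding.isInducing.specializes_iff.1 hsp).mem_closed hz rfl))

theorem stalk_over [IsRegularLocalRing (X.presheaf.stalk x)] (hdim : ringKrullDim (X.presheaf.stalk x) = 2)
    {z : X₁} (hz : IsClosed ({z} : Set X₁)) (h : b z = x) :
    IsRegularLocalRing (X₁.presheaf.stalk z) ∧ ringKrullDim (X₁.presheaf.stalk z) = 2 := by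
  obtain ⟨z', rfl, -⟩ := exists_lift hx hb h
  have hz' : IsClosed ({z'} : Set ↥(pullback b (X.fromSpecStalk x))) := by
    have := hz.preimage (locTo b x).continuous
    rwa [← Set.image_singleton, (locTo b x).isEmbedding.injective.preimage_image] at this
  obtain ⟨h1, h2⟩ := stalk_closed_of_blowUp (A := X.presheaf.stalk x) (locB b x) hdim (blowUp_local hx hb) hz'
  haveI := isIso_stalkMap_loc hx hb z'
  let e := (asIso ((locTo b x).stalkMap z')).commRingCatIsoToRingEquiv
  haveI := h1
  exact ⟨IsRegularLocalRing.of_ringEquiv e.symm, (ringKrullDim_eq_of_ringEquiv e).trans h2⟩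

theorem exc_comap_loc : ((pt hx).comap b).comap (locTo b x) =
    (BlowUpLib.centre (maximalIdeal (X.presheaf.stalk x))).comap (locB b x) := by
  rw [← Scheme.IdealSheafData.comap_comp, pullback.condition, Scheme.IdealSheafData.comap_comp,
    Contraction7.comap_fromSpecStalk hx]

/-- The blow-up at a regular surface point contracts an exceptional curve of the first kind. -/
theorem exists_contraction [IsNoetherian X] [IsRegularLocalRing (X.presheaf.stalk x)]
    (hdim : ringKrullDim (X.presheaf.stalk x) = 2) :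
    ∃ (E : Scheme.{u}) (ι : E ⟶ X₁), IsClosedImmersion ι ∧ Models.IsExcCurve ι ∧ Models.IsContractionOf ι b := by
  let EA := (BlowUpLib.centre (maximalIdeal (X.presheaf.stalk x))).comap (locB b x)
  let ι := EA.subschemeι ≫ locTo b x
  haveI : Flat (X.fromSpecStalk x) := H23.RatExtend.flat_fromSpecStalk X x
  haveI : IsPreimmersion ι := inferInstance
  have hrange : Set.range ι = b ⁻¹' {x} := by
    ext z
    constructor
    · rintro ⟨w, rfl⟩
      have hw : EA.subschemeι w ∈ (EA.support : Set _) := by
        rw [← Scheme.IdealSheafData.range_subschemeι]; exact ⟨w, rfl⟩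
      exact over_of_closedPoint hx hb ((mem_exceptional_iff (A := X.presheaf.stalk x) _ _).1 hw)
    · intro hz
      obtain ⟨z', rfl, hz'⟩ := exists_lift hx hb hz
      obtain ⟨w, hw⟩ : z' ∈ Set.range EA.subschemeι := by
        rw [Scheme.IdealSheafData.range_subschemeι]; exact (mem_exceptional_iff (A := X.presheaf.stalk x) _ _).2 hz'
      exact ⟨w, by rw [Scheme.Hom.comp_apply, hw]⟩
  haveI : IsClosedImmersion ι := IsClosedImmersion.of_isPreimmersion ι (hrange ▸ hx.preimage b.continuous)
  have hker : ι.ker = (pt hx).comap b := by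
    refine ext_sI fun z => ?_
    by_cases hz : b z = x
    · obtain ⟨w, rfl⟩ : z ∈ Set.range ι := by rw [hrange]; exact hz
      haveI := isIso_stalkMap_loc hx hb (EA.subschemeι w)
      let e := (asIso ((locTo b x).stalkMap (EA.subschemeι w))).commRingCatIsoToRingEquiv
      have h1 : sI ι.ker (ι w) = RingHom.ker (ι.stalkMap w).hom := by
        rw [← ker_stalkMap_closed]
      have h2 : RingHom.ker (ι.stalkMap w).hom = (sI EA (EA.subschemeι w)).comap e.toRingHom := by
        rw [Scheme.Hom.stalkMap_comp, CommRingCat.hom_comp, ← RingHom.comap_ker, ker_stalkMap]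
        rfl
      have h3 : sI EA (EA.subschemeι w) = (sI ((pt hx).comap b) (ι w)).map e.toRingHom := by
        show sI EA (EA.subschemeι w) = (sI ((pt hx).comap b) (locTo b x (EA.subschemeι w))).map ((locTo b x).stalkMap (EA.subschemeι w)).hom
        rw [← sI_comap, exc_comap_loc hx hb]
      rw [h1, h2, h3]
      exact Ideal.comap_map_of_bijective _ e.bijective
    · rw [sI_eq_top, sI_eq_top fun h => hz ((mem_support_exc hx z).1 h)]
      rw [Scheme.Hom.support_ker]
      show z ∉ closure (Set.range ι)
      rw [hrange, (hx.preimage b.continuous).closure_eq]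
      exact hz
  obtain ⟨-, -, k, hk, e, ⟨φ⟩⟩ := BlowP1.main hdim (locB b x) (blowUp_local hx hb)
  refine ⟨EA.subscheme, ι, inferInstance, ⟨hker ▸ hb.1, k, hk, e, ⟨?_⟩⟩, ⟨inferInstance, isProper_point hx hb, x,
    hx, ?_, inferInstance, hdim, hb⟩⟩
  · have heA : BlowUp.IsEffCartierIdeal (((pt hx).comap b).comap (locTo b x)) := by
      rw [exc_comap_loc hx hb]; exact (blowUp_local hx hb).1
    refine (Scheme.Modules.pullbackCongr (Category.assoc e.hom EA.subschemeι (locTo b x)).symm).app _ ≪≫
      ((Scheme.Modules.pullbackComp (e.hom ≫ EA.subschemeι) (locTo b x)).app _).symm ≪≫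
      (Scheme.Modules.pullback (e.hom ≫ EA.subschemeι)).mapIso
        ((Scheme.Modules.pullback (locTo b x)).mapIso (eqToIso (congrArg ClSub.idealMod hker)) ≪≫
          (H26.InterDiv.nonempty_pullback_idealMod (locTo b x) _ hb.1 heA).some ≪≫
          eqToIso (congrArg ClSub.idealMod (exc_comap_loc hx hb))) ≪≫ ?_
    refine (Scheme.Modules.pullbackCongr ?_).app _ ≪≫
      (Scheme.Modules.pullback _).mapIso (eqToIso (congrArg ClSub.idealMod
        (Scheme.IdealSheafData.ker_subschemeι EA).symm)) ≪≫ φ
    rfl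
  · rw [show ((ι ≫ b).base : _ → X) = b ∘ ι from rfl, Set.range_comp, hrange,
      Set.image_preimage_eq_inter_range, Set.inter_eq_left, Set.singleton_subset_iff]
    obtain ⟨w, hw⟩ : Nonempty (EA.subscheme) ∧ True := ⟨by
      haveI := CurveCover.isIntegral_line k
      exact ⟨e.hom (Classical.arbitrary _)⟩, trivial⟩
    obtain ⟨w⟩ := w
    exact ⟨ι w, (hrange ▸ ⟨w, rfl⟩ : ι w ∈ b ⁻¹' {x})⟩

end Groth.Agent.PointBlow
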