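import Mathlib
import Groth.Agent.PointBlow.Step
import Groth.Agent.S1622

/-!
# All points over a blown-up regular surface point are regular
-/

set_option autoImplicit false
set_option linter.style.haveILetI false
set_option linter.unusedSectionVars false
set_option backward.isDefEq.respectTransparency false
set_option backward.isDefEq.respectTransparency.types false

universe u

open CategoryTheory CategoryTheory.Limits AlgebraicGeometry TopologicalSpace IsLocalRing

noncomputable section

namespace Groth.Agent.PointBlow

variable {X X₁ : Scheme.{u}} {b : X₁ ⟶ X} {x : X} (hx : IsClosed ({x} : Set X))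
  [IsLocallyNoetherian X] (hb : BlowUp.IsBlowUp b (pt hx))

include hb

theorem regular_of_regular [IsRegularLocalRing (X.presheaf.stalk x)] (hdim : ringKrullDim (X.presheaf.stalk x) = 2)
    (z : X₁) (h : IsRegularLocalRing (X.presheaf.stalk (b z))) : IsRegularLocalRing (X₁.presheaf.stalk z) := by
  by_cases hz : b z = x
  · obtain ⟨z', rfl, -⟩ := exists_lift hx hb hz
    haveI := (S1622.result (X.presheaf.stalk x) hdim _ (locB b x) (blowUp_local hx hb)).2 z'
    haveI := isIso_stalkMap_loc hx hb z'
    exact IsRegularLocalRing.of_ringEquiv (asIso ((locTo b x).stalkMap z')).commRingCatIsoToRingEquiv.symm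
  · haveI := isIso_stalkMap_off hx hb hz
    exact IsRegularLocalRing.of_ringEquiv (asIso (b.stalkMap z)).commRingCatIsoToRingEquiv

end Groth.Agent.PointBlow
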