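import Mathlib
import Groth.Agent.PointBlow.Step
import Groth.Agent.PointBlow.RegStep

/-!
# Principalization of an ideal supported at regular surface points by point blow-ups
-/

set_option autoImplicit false
set_option linter.style.haveILetI false
set_option linter.unusedSectionVars false
set_option backward.isDefEq.respectTransparency false
set_option backward.isDefEq.respectTransparency.types false
set_option maxHeartbeats 800000

universe u

open CategoryTheory CategoryTheory.Limits AlgebraicGeometry TopologicalSpace IsLocalRing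
open Groth.Agent.H23.StalkIdeal

noncomputable section

namespace Groth.Agent.PointBlow

variable {X X₁ : Scheme.{u}} {b : X₁ ⟶ X} {x : X} (hx : IsClosed ({x} : Set X))

theorem comap_fromSpecStalk_eq (I : X.IdealSheafData) (x : X) :
    I.comap (X.fromSpecStalk x) = BlowUpLib.centre (sI I x) := eq_centre _

theorem colen_eq_sum (I : X.IdealSheafData) (s : Finset X) (h : (I.support : Set X) ⊆ s) :
    colen I = ∑ y ∈ s, len I y :=
  finsum_eq_sum_of_support_subset _ ((support_len I).trans h)

theorem centre_pow {R : CommRingCat.{u}} (J : Ideal R) (n : ℕ) :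
    BlowUpLib.centre (A := R) J ^ n = BlowUpLib.centre (A := R) (J ^ n) := by
  refine (eq_centre (BlowUpLib.centre (A := R) J ^ n)).trans (congrArg _ ?_)
  rw [tI, Scheme.IdealSheafData.ideal_pow, Pi.pow_apply, Ideal.map_pow]
  exact congrArg (· ^ n) (tI_centre J)

theorem centre_mono {R : CommRingCat.{u}} {J K : Ideal R} (h : J ≤ K) :
    BlowUpLib.centre (A := R) J ≤ BlowUpLib.centre (A := R) K := by
  intro U
  rw [Scheme.IdealSheafData.ofIdealTop_ideal, Scheme.IdealSheafData.ofIdealTop_ideal]
  exact Ideal.map_mono (Ideal.map_mono h)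

theorem le_of_comap_le {W : Scheme.{u}} (p : W ⟶ X₁) {J K : X₁.IdealSheafData}
    (hcov : ∀ z, (∃ z', p z' = z ∧ IsIso (p.stalkMap z')) ∨ sI K z = ⊤) (h : J.comap p ≤ K.comap p) : J ≤ K := by
  refine le_of_sI fun z => ?_
  rcases hcov z with ⟨z', rfl, hi⟩ | hK
  swap
  · rw [hK]; exact le_top
  haveI := hi
  have h1 := sI_mono h z'
  rw [sI_comap, sI_comap, Ideal.map_le_iff_le_comap] at h1
  exact h1.trans (Ideal.comap_map_of_bijective _ (ConcreteCategory.bijective_of_isIso (p.stalkMap z'))).le

section Loc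

variable [IsLocallyNoetherian X] (hb : BlowUp.IsBlowUp b (pt hx))
include hb

theorem ideal_comap_loc (I : X.IdealSheafData) :
    (I.comap b).comap (locTo b x) = (BlowUpLib.centre (sI I x)).comap (locB b x) := by
  rw [← comap_fromSpecStalk_eq I x, ← Scheme.IdealSheafData.comap_comp, ← Scheme.IdealSheafData.comap_comp,
    pullback.condition]

theorem sI_exc_off {z : X₁} (hz : b z ≠ x) (k : ℕ) : sI ((pt hx).comap b ^ k) z = ⊤ := by
  rw [sI_pow, sI_eq_top fun h => hz ((mem_support_exc hx z).1 h)]
  exact Ideal.top_pow _ k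

theorem le_exc_pow_iff (I : X.IdealSheafData) (k : ℕ) :
    I.comap b ≤ (pt hx).comap b ^ k ↔ (BlowUpLib.centre (sI I x)).comap (locB b x) ≤
      (BlowUpLib.centre (maximalIdeal (X.presheaf.stalk x))).comap (locB b x) ^ k := by
  have e1 := ideal_comap_loc hx hb I
  have e2 : ((pt hx).comap b ^ k).comap (locTo b x) =
      (BlowUpLib.centre (maximalIdeal (X.presheaf.stalk x))).comap (locB b x) ^ k :=
    (comap_pow ((pt hx).comap b) (locTo b x) k).trans (congrArg (· ^ k) (exc_comap_loc hx hb))
  refine ⟨fun h => e1.symm.trans_le ((Scheme.IdealSheafData.comap_mono _ h).trans_eq e2),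
    fun hk => le_of_comap_le (locTo b x) (fun z => ?_) (e1.trans_le (hk.trans_eq e2.symm))⟩
  by_cases hz : b z = x
  · obtain ⟨z', hz', -⟩ := exists_lift hx hb hz
    exact Or.inl ⟨z', hz', isIso_stalkMap_loc hx hb z'⟩
  · exact Or.inr (sI_exc_off hx hb hz k)

theorem exists_order [IsRegularLocalRing (X.presheaf.stalk x)] (hdim : ringKrullDim (X.presheaf.stalk x) = 2)
    (I : X.IdealSheafData) {n : ℕ} (hn : maximalIdeal (X.presheaf.stalk x) ^ n ≤ sI I x) :
    ∃ d : ℕ, I.comap b ≤ (pt hx).comap b ^ d ∧ ¬ I.comap b ≤ (pt hx).comap b ^ (d + 1) := by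
  classical
  have hex : ∃ k, ¬ I.comap b ≤ (pt hx).comap b ^ (k + 1) := by
    refine ⟨n, fun h => nonempty_exceptional (A := X.presheaf.stalk x) (locB b x) hdim (blowUp_local hx hb) ?_⟩
    have h1 : ((BlowUpLib.centre (maximalIdeal (X.presheaf.stalk x))).comap (locB b x)) ^ n ≤
        (BlowUpLib.centre (sI I x)).comap (locB b x) := by
      rw [← comap_pow, centre_pow]
      exact Scheme.IdealSheafData.comap_mono _ (centre_mono hn)
    have h2 := h1.trans ((le_exc_pow_iff hx hb I _).1 h)
    rw [pow_succ'] at h2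
    exact top_unique (ModPairLib.le_of_mul_le_mul (isEffCartier_pow (blowUp_local hx hb).1 n)
      (by rw [← Scheme.IdealSheafData.one_eq_top, one_mul]; exact h2))
  refine ⟨Nat.find hex, ?_, Nat.find_spec hex⟩
  rcases Nat.eq_zero_or_pos (Nat.find hex) with h | h
  · rw [h, pow_zero, Scheme.IdealSheafData.one_eq_top]; exact le_top
  · obtain ⟨m, hm⟩ := Nat.exists_eq_succ_of_ne_zero h.ne'
    have := not_not.1 (Nat.find_min hex (m := m) (by omega))
    rw [hm]; exact this

theorem colen_lt (I : X.IdealSheafData) (hfin : (I.support : Set X).Finite)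
    (hcl : ∀ y ∈ (I.support : Set X), IsClosed ({y} : Set X)) (hxI : x ∈ (I.support : Set X))
    (I' : X₁.IdealSheafData) (hfin' : (I'.support : Set X₁).Finite)
    (hfinA : ((I'.comap (locTo b x)).support : Set ↥(pullback b (X.fromSpecStalk x))).Finite)
    (hsum : colen (I'.comap (locTo b x)) < len I x)
    (hoff : ∀ z, b z ≠ x → sI I' z = sI (I.comap b) z)
    (himg : ∀ z' ∈ ((I'.comap (locTo b x)).support : Set ↥(pullback b (X.fromSpecStalk x))), b (locTo b x z') = x)
    (hpts : ∀ z ∈ (I'.support : Set X₁), b z ∈ (I.support : Set X)) :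
    colen I' < colen I := by
  classical
  let S := hfin'.toFinset
  let SA := hfinA.toFinset
  let T := hfin.toFinset.erase x
  have hfilt : S.filter (fun z => b z = x) = SA.image (locTo b x) := by
    ext z
    simp only [S, SA, Finset.mem_filter, Set.Finite.mem_toFinset, Finset.mem_image]
    constructor
    · rintro ⟨hz, hzx⟩
      obtain ⟨z', rfl, -⟩ := exists_lift hx hb hzx
      exact ⟨z', by rw [Scheme.IdealSheafData.support_comap]; exact hz, rfl⟩
    · rintro ⟨z', hz', rfl⟩
      exact ⟨by rw [Scheme.IdealSheafData.support_comap] at hz'; exact hz', himg z' hz'⟩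
  have hA : ∑ z ∈ S.filter (fun z => b z = x), len I' z = colen (I'.comap (locTo b x)) := by
    rw [hfilt, Finset.sum_image fun _ _ _ _ h => (locTo b x).isEmbedding.injective h,
      colen_eq_sum _ SA (by simp [SA])]
    refine Finset.sum_congr rfl fun z' _ => ?_
    haveI := isIso_stalkMap_loc hx hb z'
    exact (len_congr (locTo b x) I' z').symm
  have hB : ∑ z ∈ S.filter (fun z => ¬ b z = x), len I' z ≤ ∑ y ∈ T, len I y := by
    calc ∑ z ∈ S.filter (fun z => ¬ b z = x), len I' z
        = ∑ z ∈ S.filter (fun z => ¬ b z = x), len I (b z) := Finset.sum_congr rfl fun z hz => by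
          have hzx := (Finset.mem_filter.1 hz).2
          haveI := isIso_stalkMap_off hx hb hzx
          rw [← len_congr b I z, len, len, hoff z hzx]
      _ = ∑ y ∈ (S.filter (fun z => ¬ b z = x)).image b, len I y := (Finset.sum_image fun a ha _ _ h =>
          injective_off hx hb (Finset.mem_filter.1 ha).2 h).symm
      _ ≤ ∑ y ∈ T, len I y := Finset.sum_le_sum_of_subset fun y hy => by
          obtain ⟨z, hz, rfl⟩ := Finset.mem_image.1 hy
          obtain ⟨hz, hzx⟩ := Finset.mem_filter.1 hz
          exact Finset.mem_erase.2 ⟨hzx, hfin.mem_toFinset.2 (hpts z (hfin'.mem_toFinset.1 hz))⟩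
  have hne : ∑ y ∈ T, len I y ≠ ⊤ := WithTop.sum_ne_top.2 fun y _ => len_ne_top hcl y
  rw [colen_eq_sum I' S (by simp [S]), ← Finset.sum_filter_add_sum_filter_not S (fun z => b z = x),
    colen_eq_sum I hfin.toFinset (by simp), ← Finset.add_sum_erase _ _ (hfin.mem_toFinset.2 hxI), hA]
  calc colen (I'.comap (locTo b x)) + ∑ z ∈ S.filter (fun z => ¬ b z = x), len I' z
      ≤ colen (I'.comap (locTo b x)) + ∑ y ∈ T, len I y := add_le_add le_rfl hB
    _ < len I x + ∑ y ∈ T, len I y := WithTop.add_lt_add_right hne hsum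

end Loc

/-- The weak transform of an ideal under the blow-up of a point of its support. -/
theorem exists_weak [IsNoetherian X] (hb : BlowUp.IsBlowUp b (pt hx)) [IsRegularLocalRing (X.presheaf.stalk x)]
    (hdim : ringKrullDim (X.presheaf.stalk x) = 2) (I : X.IdealSheafData) (hfin : (I.support : Set X).Finite)
    (hcl : ∀ y ∈ (I.support : Set X), IsClosed ({y} : Set X)) (hxI : x ∈ (I.support : Set X)) :
    ∃ (I' : X₁.IdealSheafData) (d : ℕ), I.comap b = I' * (pt hx).comap b ^ d ∧
      (I'.support : Set X₁).Finite ∧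
      (∀ z ∈ (I'.support : Set X₁), IsClosed ({z} : Set X₁) ∧ b z ∈ (I.support : Set X)) ∧
      colen I' < colen I := by
  haveI := isProper_point hx hb
  haveI : IsNoetherianRing (CommRingCat.of (X.presheaf.stalk x)) :=
    inferInstanceAs (IsNoetherianRing (X.presheaf.stalk x))
  obtain ⟨n, hn⟩ := exists_pow_le (x := x) hcl
  have hIm : sI I x ≤ maximalIdeal (X.presheaf.stalk x) := le_maximalIdeal ((mem_support_iff I x).1 hxI)
  obtain ⟨d, hd1, hd2⟩ := exists_order hx hb hdim I hn
  have hEd : BlowUp.IsEffCartierIdeal ((pt hx).comap b ^ d) := isEffCartier_pow hb.1 d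
  obtain ⟨I', hI'⟩ : ∃ I', I.comap b = I' * (pt hx).comap b ^ d := ⟨_, (ModPairLib.colon_mul hEd hd1).symm⟩
  have hIA : (BlowUpLib.centre (sI I x)).comap (locB b x) = I'.comap (locTo b x) *
      (BlowUpLib.centre (maximalIdeal (X.presheaf.stalk x))).comap (locB b x) ^ d := by
    rw [← ideal_comap_loc hx hb I, ← exc_comap_loc hx hb, ← comap_pow, ← ModPairLib.ideal_comap_mul, ← hI']
  obtain ⟨-, hfinA, hclA, hlt, hsum⟩ := Colength.weak_colength (A := X.presheaf.stalk x) (locB b x)
    (I'.comap (locTo b x)) hdim (blowUp_local hx hb) (sI I x) hn hIm d hIA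
    (fun h => hd2 ((le_exc_pow_iff hx hb I _).2 h))
  rw [colen_subscheme] at hsum
  have hltA : colen (I'.comap (locTo b x)) < len I x := hsum.trans_lt hlt
  haveI := isProper_local (A := X.presheaf.stalk x) (locB b x) (blowUp_local hx hb)
  have hoff : ∀ z, b z ≠ x → sI I' z = sI (I.comap b) z := fun z hz => by
    rw [hI', sI_mul, sI_exc_off hx hb hz d, Ideal.mul_top]
  have himg : ∀ z' ∈ ((I'.comap (locTo b x)).support : Set ↥(pullback b (X.fromSpecStalk x))), b (locTo b x z') = x := fun z' hz' =>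
    over_of_closedPoint hx hb (map_closed (A := X.presheaf.stalk x) _ (hclA z' hz'))
  have hover : ∀ z ∈ (I'.support : Set X₁), b z = x →
      ∃ z' ∈ ((I'.comap (locTo b x)).support : Set ↥(pullback b (X.fromSpecStalk x))), locTo b x z' = z := by
    intro z hz hzx
    obtain ⟨z', rfl, -⟩ := exists_lift hx hb hzx
    exact ⟨z', by rw [Scheme.IdealSheafData.support_comap]; exact hz, rfl⟩
  have hclz : ∀ z ∈ (I'.support : Set X₁), IsClosed ({z} : Set X₁) ∧ b z ∈ (I.support : Set X) := by
    intro z hz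
    by_cases hzx : b z = x
    · obtain ⟨z', hz', rfl⟩ := hover z hz hzx
      exact ⟨closed_over hx hb (hclA z' hz'), hzx.symm ▸ hxI⟩
    · have h1 : z ∈ ((I.comap b).support : Set X₁) :=
        (mem_support_iff _ z).2 (hoff z hzx ▸ (mem_support_iff I' z).1 hz)
      rw [Scheme.IdealSheafData.support_comap] at h1
      exact ⟨closed_off hx hb (hcl _ h1) hzx rfl, h1⟩
  have hfin2 : ({z | b z ∈ (I.support : Set X) ∧ b z ≠ x} : Set X₁).Finite :=
    ((hfin.subset Set.sdiff_subset).preimage (f := b) (s := (I.support : Set X) \ {x}) (fun a ha _ _ h => injective_off hx hb ha.2 h)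
      |>.subset (fun z hz => hz))
  have hfin' : (I'.support : Set X₁).Finite := ((hfinA.image (locTo b x)).union hfin2).subset fun z hz => by
    by_cases hzx : b z = x
    · obtain ⟨z', hz', rfl⟩ := hover z hz hzx
      exact Or.inl ⟨z', hz', rfl⟩
    · exact Or.inr ⟨(hclz z hz).2, hzx⟩
  exact ⟨I', d, hI', hfin', hclz, colen_lt hx hb I hfin hcl hxI I' hfin' hfinA hltA hoff himg fun z hz => (hclz z hz).2⟩

/-- An isomorphism over an open remains one over a smaller one. -/
theorem isIso_restrict_mono {Y Z : Scheme.{u}} (g : Y ⟶ Z) {U V : Z.Opens} (h : V ≤ U) [IsIso (g ∣_ U)] :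
    IsIso (g ∣_ V) := by
  have hp : MorphismProperty.isomorphisms Scheme (g ∣_ U ∣_ (U.ι ⁻¹ᵁ V)) :=
    IsZariskiLocalAtTarget.restrict (show MorphismProperty.isomorphisms Scheme (g ∣_ U) from ‹_›) _
  rw [(MorphismProperty.isomorphisms Scheme).arrow_mk_iso_iff (morphismRestrictRestrict g U _),
    (MorphismProperty.isomorphisms Scheme).arrow_mk_iso_iff (morphismRestrictEq g
      (show U.ι ''ᵁ (U.ι ⁻¹ᵁ V) = V by
        rw [U.ι.image_preimage_eq_opensRange_inf, U.opensRange_ι, inf_eq_right.2 h]))] at hp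
  exact hp

/-- Ideals with finite support at regular surface points become invertible after point blow-ups, which
keep regular points regular. -/
theorem exists_principalization' {X : Scheme.{u}} [IsNoetherian X] (I : X.IdealSheafData)
    (hfin : (I.support : Set X).Finite)
    (hT : ∀ y ∈ (I.support : Set X), IsClosed ({y} : Set X) ∧ IsRegularLocalRing (X.presheaf.stalk y) ∧
      ringKrullDim (X.presheaf.stalk y) = 2) :
    ∃ (X' : Scheme.{u}) (g : X' ⟶ X),
      (∀ (X₀ : Scheme.{u}) (r : X ⟶ X₀), Models.IsContractionSeq r → Models.IsContractionSeq (g ≫ r)) ∧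
      IsIso (g ∣_ I.support.compl) ∧ BlowUp.IsEffCartierIdeal (I.comap g) ∧
      (∀ D : X.IdealSheafData, BlowUp.IsEffCartierIdeal D → BlowUp.IsEffCartierIdeal (D.comap g)) ∧
      ∀ z : X', IsRegularLocalRing (X.presheaf.stalk (g z)) → IsRegularLocalRing (X'.presheaf.stalk z) := by
  suffices key : ∀ (c : ℕ∞) (X : Scheme.{u}) [IsNoetherian X] (I : X.IdealSheafData), colen I = c →
      (I.support : Set X).Finite →
      (∀ y ∈ (I.support : Set X), IsClosed ({y} : Set X) ∧ IsRegularLocalRing (X.presheaf.stalk y) ∧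
        ringKrullDim (X.presheaf.stalk y) = 2) →
      ∃ (X' : Scheme.{u}) (g : X' ⟶ X),
        (∀ (X₀ : Scheme.{u}) (r : X ⟶ X₀), Models.IsContractionSeq r → Models.IsContractionSeq (g ≫ r)) ∧
        IsIso (g ∣_ I.support.compl) ∧ BlowUp.IsEffCartierIdeal (I.comap g) ∧
        (∀ D : X.IdealSheafData, BlowUp.IsEffCartierIdeal D → BlowUp.IsEffCartierIdeal (D.comap g)) ∧
        ∀ z : X', IsRegularLocalRing (X.presheaf.stalk (g z)) → IsRegularLocalRing (X'.presheaf.stalk z) from
    key _ X I rfl hfin hT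
  intro c
  induction c using WellFoundedLT.induction with
  | _ c ih => ?_
  intro X _ I hc hfin hT
  by_cases hemp : (I.support : Set X) = ∅
  · refine ⟨X, 𝟙 X, fun X₀ r hr => by rwa [Category.id_comp], inferInstance, ?_,
      fun D hD => by rwa [Scheme.IdealSheafData.comap_id], fun z hz => hz⟩
    rw [Scheme.IdealSheafData.comap_id, (Scheme.IdealSheafData.support_eq_bot_iff I).1 (SetLike.coe_injective
      (by rw [hemp]; rfl))]
    exact BlowUpLib.isEffCartier_top X
  obtain ⟨x, hxI⟩ := Set.nonempty_iff_ne_empty.2 hemp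
  obtain ⟨hx, hreg, hdim⟩ := hT x hxI
  haveI := hreg
  obtain ⟨X₁, b, hb⟩ := BlowUpLib.exists_blowUp (C := pt hx)
  haveI := isProper_point hx hb
  haveI : IsLocallyNoetherian X₁ := LocallyOfFiniteType.isLocallyNoetherian b
  haveI : CompactSpace X₁ := QuasiCompact.compactSpace_of_compactSpace b
  haveI : IsNoetherian X₁ := {}
  obtain ⟨E, ι, hι, hE, hcon⟩ := exists_contraction hx hb hdim
  obtain ⟨I', d, hI', hfin', hpts, hlt⟩ := exists_weak hx hb hdim I hfin (fun y hy => (hT y hy).1) hxI
  have hT' : ∀ z ∈ (I'.support : Set X₁), IsClosed ({z} : Set X₁) ∧ IsRegularLocalRing (X₁.presheaf.stalk z) ∧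
      ringKrullDim (X₁.presheaf.stalk z) = 2 := by
    intro z hz
    obtain ⟨hzc, hzI⟩ := hpts z hz
    refine ⟨hzc, ?_⟩
    by_cases hzx : b z = x
    · exact stalk_over hx hb hdim hzc hzx
    · haveI := isIso_stalkMap_off hx hb hzx
      let e := (asIso (b.stalkMap z)).commRingCatIsoToRingEquiv
      obtain ⟨-, h1, h2⟩ := hT _ hzI
      haveI := h1
      exact ⟨IsRegularLocalRing.of_ringEquiv e, (ringKrullDim_eq_of_ringEquiv e).symm.trans h2⟩
  obtain ⟨X', g, hg, hiso, heff, hpres, hregp⟩ := ih (colen I') (hc ▸ hlt) X₁ I' rfl hfin' hT'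
  refine ⟨X', g ≫ b, fun X₀ r hr => by
    rw [Category.assoc]; exact hg X₀ (b ≫ r) (Models.IsContractionSeq.step ι b r hι hE hcon hr), ?_, ?_,
    fun D hD => by
      rw [Scheme.IdealSheafData.comap_comp]; exact hpres _ (ModPairLib.isEffCartier_comap_blowUp hb hD),
    fun z hz => hregp z (regular_of_regular hx hb hdim (g z) hz)⟩
  · haveI := isIso_off hx hb
    haveI : IsIso (b ∣_ I.support.compl) := isIso_restrict_mono b (U := ⟨{x}ᶜ, hx.isOpen_compl⟩)
      fun y hy h => hy (Set.mem_singleton_iff.1 h ▸ hxI)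
    haveI := hiso
    haveI : IsIso (g ∣_ (b ⁻¹ᵁ I.support.compl)) := isIso_restrict_mono g (U := I'.support.compl)
      fun z hz hz' => hz (hpts z hz').2
    rw [morphismRestrict_comp]
    infer_instance
  · rw [Scheme.IdealSheafData.comap_comp, hI', ModPairLib.ideal_comap_mul, comap_pow]
    exact ModPairLib.isEffCartier_mul heff (isEffCartier_pow (hpres _ hb.1) d)

/-- Ideals with finite support at regular surface points become invertible after point blow-ups. -/
theorem exists_principalization {X : Scheme.{u}} [IsNoetherian X] (I : X.IdealSheafData)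
    (hfin : (I.support : Set X).Finite)
    (hT : ∀ y ∈ (I.support : Set X), IsClosed ({y} : Set X) ∧ IsRegularLocalRing (X.presheaf.stalk y) ∧
      ringKrullDim (X.presheaf.stalk y) = 2) :
    ∃ (X' : Scheme.{u}) (g : X' ⟶ X),
      (∀ (X₀ : Scheme.{u}) (r : X ⟶ X₀), Models.IsContractionSeq r → Models.IsContractionSeq (g ≫ r)) ∧
      IsIso (g ∣_ I.support.compl) ∧ BlowUp.IsEffCartierIdeal (I.comap g) ∧
      ∀ D : X.IdealSheafData, BlowUp.IsEffCartierIdeal D → BlowUp.IsEffCartierIdeal (D.comap g) := by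
  obtain ⟨X', g, h1, h2, h3, h4, -⟩ := exists_principalization' I hfin hT
  exact ⟨X', g, h1, h2, h3, h4⟩

end Groth.Agent.PointBlow
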