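import Mathlib
import Groth.Agent.PointBlow.Basic
import Groth.Agent.CartExt.UfdExt
import Groth.Agent.SchTop.Closed
import Groth.Agent.S2821

/-!
# The divisorial part of an ideal on a regular surface
-/

set_option autoImplicit false
set_option linter.style.haveILetI false
set_option backward.isDefEq.respectTransparency.types false

universe u

open CategoryTheory AlgebraicGeometry TopologicalSpace Opposite
open Groth.Agent.CartExt
open Groth.Agent.H23.StalkIdeal

namespace Groth.Agent.PointBlow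

variable {X : Scheme.{u}}

/-- The largest extension of an effective Cartier divisor across factorial points is effective Cartier. -/
theorem isEffCartier_map [IsLocallyNoetherian X] (U : X.Opens)
    (D : (U : Scheme.{u}).IdealSheafData) (hD : BlowUp.IsEffCartierIdeal D)
    (hufd : ∀ x : X, x ∉ U → IsDomain (X.presheaf.stalk x) ∧ UniqueFactorizationMonoid (X.presheaf.stalk x)) :
    BlowUp.IsEffCartierIdeal (D.map U.ι) := by
  classical
  haveI : QuasiCompact U.ι := inferInstance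
  intro x
  have hcomap : BlowUp.IsEffCartierIdeal ((D.map U.ι).comap U.ι) := by rw [comap_map_ι]; exact hD
  by_cases hxU : x ∈ U
  · exact exists_gen_of_comap U _ hcomap x hxU
  obtain ⟨_, ⟨W, hW, rfl⟩, hxW, -⟩ := X.isBasis_affineOpens.exists_subset_of_mem_open (Set.mem_univ x) isOpen_univ
  replace hW : IsAffineOpen W := hW
  haveI : IsNoetherianRing Γ(X, W) := IsLocallyNoetherian.component_noetherian ⟨W, hW⟩
  -- `W ∩ U` is covered by finitely many basic opens
  obtain ⟨s, hs⟩ := (PrimeSpectrum.isOpen_iff _).1 (hW.fromSpec ⁻¹ᵁ U).2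
  obtain ⟨S, hS⟩ := (IsNoetherian.noetherian (Ideal.span s) : (Ideal.span s).FG)
  have hmemU : ∀ (q : X) (hq : q ∈ W), q ∈ U ↔ ∃ f ∈ S, f ∉ (hW.primeIdealOf ⟨q, hq⟩).asIdeal := fun q hq => by
    have h1 := Set.ext_iff.1 hs (hW.primeIdealOf ⟨q, hq⟩)
    have h2 : ¬ hW.fromSpec (hW.primeIdealOf ⟨q, hq⟩) ∈ U ↔
        (Ideal.span s : Set Γ(X, W)) ⊆ (hW.primeIdealOf ⟨q, hq⟩).asIdeal := by
      rw [← PrimeSpectrum.mem_zeroLocus, PrimeSpectrum.zeroLocus_span]
      exact h1
    rw [hW.fromSpec_primeIdealOf ⟨q, hq⟩, SetLike.coe_subset_coe, ← hS, Ideal.span_le] at h2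
    rw [← not_iff_not, h2]
    simp [Set.subset_def]
  have hbasic : ∀ f ∈ S, X.basicOpen f ≤ U := fun f hf q hq => by
    have hqW : q ∈ W := X.basicOpen_le f hq
    exact (hmemU q hqW).2 ⟨f, hf, (Groth.Agent.QCoh.mem_basicOpen_iff_notMem hW hqW f).1 hq⟩
  set D' := D.map U.ι with hD'
  let J : S → Ideal Γ(X, W) := fun f => (D'.ideal (X.affineBasicOpen (U := ⟨W, hW⟩) f.1)).comap
    (X.presheaf.map (homOfLE (X.basicOpen_le f.1)).op).hom
  have hJ : D'.ideal ⟨W, hW⟩ = ⨅ f, J f := by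
    refine le_antisymm (le_iInf fun f => Ideal.map_le_iff_le_comap.1 (D'.map_ideal _).le) fun r hr => ?_
    refine mem_ker_of_cover (D.subschemeι ≫ U.ι) ⟨W, hW⟩ (fun f : S => X.affineBasicOpen (U := ⟨W, hW⟩) f.1)
      (fun f => X.basicOpen_le f.1) ?_ r fun f => Ideal.mem_iInf.1 hr f
    intro z hz
    have hzU : (D.subschemeι ≫ U.ι) z ∈ U := by rw [Scheme.Hom.comp_apply]; exact (D.subschemeι z).2
    obtain ⟨f, hf, hfz⟩ := (hmemU _ hz).1 hzU
    exact Opens.mem_iSup.2 ⟨⟨f, hf⟩, (Groth.Agent.QCoh.mem_basicOpen_iff_notMem hW hz f).2 hfz⟩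
  set p := (hW.primeIdealOf ⟨x, hxW⟩).asIdeal with hp
  obtain ⟨hdom, hufd'⟩ := hufd x hxU
  letI : Algebra Γ(X, W) (X.presheaf.stalk x) := (X.presheaf.germ W x hxW).hom.toAlgebra
  haveI : IsLocalization.AtPrime (X.presheaf.stalk x) p := hW.isLocalization_stalk ⟨x, hxW⟩
  let A := X.presheaf.stalk x
  obtain ⟨g, hg0, hgK⟩ : ∃ g : A, g ≠ 0 ∧ ⨅ f : S, (J f).map (algebraMap Γ(X, W) A) = Ideal.span {g} := by
    refine exists_span_eq_iInf (fun f : S => (J f).map (algebraMap Γ(X, W) A))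
      (fun f => algebraMap Γ(X, W) A f.1) (fun f a ha => ?_) fun f Q hQ hfQ => ?_
    · obtain ⟨⟨r, s'⟩, hrs⟩ := IsLocalization.surj p.primeCompl a
      rw [← Ideal.mul_unit_mem_iff_mem _ (IsLocalization.map_units A s'), hrs, IsLocalization.algebraMap_mem_map_algebraMap_iff p.primeCompl]
      have h1 : algebraMap Γ(X, W) A (f.1 * r) ∈ (J f).map (algebraMap Γ(X, W) A) := by
        rw [map_mul, ← hrs, ← mul_assoc]; exact Ideal.mul_mem_right _ _ ha
      obtain ⟨u, hu, hur⟩ := (IsLocalization.algebraMap_mem_map_algebraMap_iff p.primeCompl A _ _).1 h1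
      refine ⟨u, hu, ?_⟩
      simp only [J, Ideal.mem_comap] at hur ⊢
      rw [show u * (f.1 * r) = f.1 * (u * r) by ring] at hur
      erw [map_mul] at hur
      exact (Ideal.unit_mul_mem_iff_mem _ (RingedSpace.isUnit_res_basicOpen X.toLocallyRingedSpace.toRingedSpace f.1)).1 hur
    · obtain ⟨q, hqW, hPq⟩ : ∃ (q : X) (hq : q ∈ W),
          (hW.primeIdealOf ⟨q, hq⟩).asIdeal = Q.comap (algebraMap Γ(X, W) A) := by
        let P₀ : PrimeSpectrum Γ(X, W) := ⟨Q.comap (algebraMap Γ(X, W) A), inferInstance⟩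
        have hqW : hW.fromSpec P₀ ∈ W := by
          have : hW.fromSpec P₀ ∈ hW.fromSpec.opensRange := ⟨P₀, rfl⟩
          rwa [IsAffineOpen.opensRange_fromSpec] at this
        exact ⟨_, hqW, congrArg PrimeSpectrum.asIdeal
          (hW.fromSpec.isOpenEmbedding.injective (hW.fromSpec_primeIdealOf ⟨_, hqW⟩) :
            hW.primeIdealOf ⟨hW.fromSpec P₀, hqW⟩ = P₀)⟩
      have hqf : q ∈ X.basicOpen f.1 :=
        (Groth.Agent.QCoh.mem_basicOpen_iff_notMem hW hqW f.1).2 (by rw [hPq]; exact hfQ)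
      obtain ⟨V, hqV, fV, hfV, hDV⟩ := exists_gen_of_comap U D' hcomap _ (hbasic f.1 f.2 hqf)
      letI : Algebra Γ(X, W) (X.presheaf.stalk q) :=
        (X.presheaf.germ W q hqW).hom.toAlgebra
      let P := hW.primeIdealOf ⟨q, hqW⟩
      haveI hlocP : IsLocalization.AtPrime (X.presheaf.stalk q) P.asIdeal := hW.isLocalization_stalk ⟨q, hqW⟩
      letI : Algebra Γ(X, V.1) (X.presheaf.stalk q) :=
        (X.presheaf.germ V.1 q hqV).hom.toAlgebra
      haveI : IsLocalization.AtPrime (X.presheaf.stalk q) (V.2.primeIdealOf ⟨_, hqV⟩).asIdeal :=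
        V.2.isLocalization_stalk ⟨_, hqV⟩
      -- compare on a common neighbourhood
      obtain ⟨_, ⟨N, hN, rfl⟩, hqN, hNle⟩ := X.isBasis_affineOpens.exists_subset_of_mem_open
        (show q ∈ (V.1 ⊓ X.basicOpen f.1 : X.Opens) from ⟨hqV, hqf⟩) (V.1 ⊓ X.basicOpen f.1).2
      replace hN : IsAffineOpen N := hN
      have hNV : N ≤ V.1 := fun z hz => (hNle hz).1
      have hNf : N ≤ X.basicOpen f.1 := fun z hz => (hNle hz).2
      have hmapV : (D'.ideal V).map (X.presheaf.germ V.1 _ hqV).hom = (D'.ideal ⟨N, hN⟩).map (X.presheaf.germ N _ hqN).hom := by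
        rw [← D'.map_ideal (U := ⟨N, hN⟩) (V := V) hNV, Ideal.map_map, ← CommRingCat.hom_comp]
        exact congrArg (fun m => (D'.ideal V).map (CommRingCat.Hom.hom m)) (X.presheaf.germ_res (homOfLE hNV) q hqN).symm
      have hmapf : (D'.ideal (X.affineBasicOpen (U := ⟨W, hW⟩) f.1)).map (X.presheaf.germ (X.basicOpen f.1) _ hqf).hom =
          (D'.ideal ⟨N, hN⟩).map (X.presheaf.germ N _ hqN).hom := by
        rw [← D'.map_ideal (U := ⟨N, hN⟩) (V := X.affineBasicOpen (U := ⟨W, hW⟩) f.1) hNf, Ideal.map_map,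
          ← CommRingCat.hom_comp]
        exact congrArg (fun m => (D'.ideal (X.affineBasicOpen (U := ⟨W, hW⟩) f.1)).map (CommRingCat.Hom.hom m))
          (X.presheaf.germ_res (homOfLE hNf) q hqN).symm
      have hB : (J f).map (algebraMap Γ(X, W) (X.presheaf.stalk q)) =
          Ideal.span {algebraMap Γ(X, V.1) (X.presheaf.stalk q) fV} := by
        have e : (J f).map (X.presheaf.map (homOfLE (X.basicOpen_le f.1)).op).hom =
            D'.ideal (X.affineBasicOpen (U := ⟨W, hW⟩) f.1) := by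
          refine le_antisymm Ideal.map_comap_le ?_
          rw [← D'.map_ideal (U := X.affineBasicOpen (U := ⟨W, hW⟩) f.1) (V := ⟨W, hW⟩) (X.basicOpen_le f.1)]
          exact Ideal.map_mono (hJ.le.trans (iInf_le _ f))
        show (J f).map (X.presheaf.germ W _ hqW).hom = _
        rw [← X.presheaf.germ_res (homOfLE (X.basicOpen_le f.1)) _ hqf, CommRingCat.hom_comp, ← Ideal.map_map, e]
        refine hmapf.trans (hmapV.symm.trans ?_)
        rw [hDV, Ideal.map_span, Set.image_singleton]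
        rfl
      set fq := algebraMap Γ(X, V.1) (X.presheaf.stalk q) fV with hfq
      have hfqB : fq ∈ nonZeroDivisors (X.presheaf.stalk q) := IsLocalization.map_nonZeroDivisors_le (V.2.primeIdealOf ⟨_, hqV⟩).asIdeal.primeCompl (X.presheaf.stalk q) ⟨_, hfV, rfl⟩
      obtain ⟨⟨⟨t₀, ht₀⟩, u₀⟩, hu₀⟩ := (IsLocalization.mem_map_algebraMap_iff P.asIdeal.primeCompl (X.presheaf.stalk q)).1
        (hB ▸ Ideal.mem_span_singleton_self fq : fq ∈ (J f).map (algebraMap Γ(X, W) (X.presheaf.stalk q)))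
      refine ⟨algebraMap Γ(X, W) A t₀, Ideal.mem_map_of_mem _ ht₀, fun h0 => ?_, fun y hy => ?_⟩
      · obtain ⟨w, hw⟩ := (IsLocalization.map_eq_zero_iff p.primeCompl A _).1 h0
        have hwP : w.1 ∉ P.asIdeal := fun h =>
          hQ.ne_top (Ideal.eq_top_of_isUnit_mem _ (Ideal.mem_comap.1 (hPq ▸ h)) (IsLocalization.map_units A w))
        have h1 : algebraMap Γ(X, W) (X.presheaf.stalk q) t₀ = 0 :=
          (IsLocalization.map_eq_zero_iff P.asIdeal.primeCompl (X.presheaf.stalk q) _).2 ⟨⟨w.1, hwP⟩, hw⟩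
        rw [← hu₀] at h1
        have h2 : fq = 0 := (IsLocalization.map_units (X.presheaf.stalk q) u₀).mul_left_eq_zero.1 h1
        haveI : Nontrivial (X.presheaf.stalk q) := inferInstance
        exact nonZeroDivisors.ne_zero hfqB h2
      · obtain ⟨⟨⟨r, hr⟩, s'⟩, hrs⟩ := (IsLocalization.mem_map_algebraMap_iff p.primeCompl A).1 hy
        have h1 : algebraMap Γ(X, W) (X.presheaf.stalk q) r ∈ Ideal.span {fq} := hB ▸ Ideal.mem_map_of_mem _ hr
        have h2 : algebraMap Γ(X, W) (X.presheaf.stalk q) r ∈ (Ideal.span {t₀}).map (algebraMap Γ(X, W) (X.presheaf.stalk q)) := by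
          rw [Ideal.map_span, Set.image_singleton, ← hu₀,
            Ideal.span_singleton_mul_right_unit (IsLocalization.map_units (X.presheaf.stalk q) u₀)]
          exact h1
        obtain ⟨u, hu, hur⟩ := (IsLocalization.algebraMap_mem_map_algebraMap_iff P.asIdeal.primeCompl (X.presheaf.stalk q) _ _).1 h2
        refine ⟨algebraMap Γ(X, W) A (u * s'.1), fun h => ?_, ?_⟩
        · have hu' : u * s'.1 ∈ P.asIdeal := hPq.symm ▸ (Ideal.mem_comap.2 h : u * s'.1 ∈ Q.comap (algebraMap Γ(X, W) A))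
          rcases P.isPrime.mem_or_mem hu' with h' | h'
          · exact hu h'
          · exact hQ.ne_top (Ideal.eq_top_of_isUnit_mem _ (Ideal.mem_comap.1 (hPq ▸ h')) (IsLocalization.map_units A s'))
        · obtain ⟨c, hc⟩ := Ideal.mem_span_singleton'.1 hur
          refine ⟨algebraMap Γ(X, W) A c, ?_⟩
          simp only at hrs
          rw [map_mul, mul_assoc, mul_comm (algebraMap Γ(X, W) A s'.1), hrs, ← map_mul, ← map_mul, ← hc, mul_comm]
  -- a generator near `x`
  have hJA : (D'.ideal ⟨W, hW⟩).map (algebraMap Γ(X, W) A) = Ideal.span {g} := by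
    rw [hJ, map_iInf_of_isLocalization p.primeCompl, hgK]
  obtain ⟨⟨⟨r, hr⟩, s'⟩, hrs⟩ := (IsLocalization.mem_map_algebraMap_iff p.primeCompl A).1
    (hJA ▸ Ideal.mem_span_singleton_self g : g ∈ (D'.ideal ⟨W, hW⟩).map (algebraMap Γ(X, W) A))
  have hspan : Ideal.span {algebraMap Γ(X, W) A r} = Ideal.span {g} := by
    rw [← hrs]; exact Ideal.span_singleton_mul_right_unit (IsLocalization.map_units A s') _
  obtain ⟨a, ha, hS'⟩ := Groth.Agent.DivX.exists_gen_away _ p A r
    (fun h => hg0 ((IsLocalization.map_units A s').mul_left_eq_zero.1 (hrs.trans h))) hr (hJA.trans hspan.symm)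
  haveI := hW.isLocalization_basicOpen a
  obtain ⟨h1, h2⟩ := hS' Γ(X, X.basicOpen a)
  refine ⟨X.affineBasicOpen (U := ⟨W, hW⟩) a, (Groth.Agent.QCoh.mem_basicOpen_iff_notMem hW hxW a).2 ha, _, h2, ?_⟩
  rw [← D'.map_ideal_basicOpen ⟨W, hW⟩ a]
  exact h1


theorem exists_gen_nhd [IsIntegral X] [IsLocallyNoetherian X] (I : X.IdealSheafData) {x : X}
    {g : X.presheaf.stalk x} (hg : g ≠ 0) (hI : sI I x = Ideal.span {g}) :
    ∃ U : X.affineOpens, x ∈ U.1 ∧ ∃ a : Γ(X, U.1), a ∈ nonZeroDivisors Γ(X, U.1) ∧ I.ideal U = Ideal.span {a} := by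
  classical
  obtain ⟨_, ⟨W₀, hW₀, rfl⟩, hxW, -⟩ := X.isBasis_affineOpens.exists_subset_of_mem_open (Set.mem_univ x) isOpen_univ
  let W : X.affineOpens := ⟨W₀, hW₀⟩
  change x ∈ W.1 at hxW
  haveI : IsNoetherianRing Γ(X, W.1) := IsLocallyNoetherian.component_noetherian W
  letI := X.presheaf.algebra_section_stalk (U := W.1) ⟨x, hxW⟩
  haveI := W.2.isLocalization_stalk ⟨x, hxW⟩
  set P := (W.2.primeIdealOf ⟨x, hxW⟩).asIdeal
  have hmap : (I.ideal W).map (algebraMap Γ(X, W.1) (X.presheaf.stalk x)) = Ideal.span {g} := by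
    rw [← hI, sI_eq I W hxW]; rfl
  obtain ⟨⟨⟨k, hk⟩, s⟩, hks⟩ := (IsLocalization.mem_map_algebraMap_iff P.primeCompl (X.presheaf.stalk x)).1
    (hmap ▸ Ideal.mem_span_singleton_self g : g ∈ (I.ideal W).map (algebraMap Γ(X, W.1) (X.presheaf.stalk x)))
  have hspan : (Ideal.span {k}).map (algebraMap Γ(X, W.1) (X.presheaf.stalk x)) = Ideal.span {g} := by
    rw [Ideal.map_span, Set.image_singleton, ← hks]
    exact Ideal.span_singleton_mul_right_unit (IsLocalization.map_units _ s) _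
  obtain ⟨G, hG⟩ := (IsNoetherian.noetherian (I.ideal W) : (I.ideal W).FG)
  have hkill : ∀ m ∈ G, ∃ t ∉ P, t * m ∈ Ideal.span {k} := fun m hm => by
    have h1 : algebraMap Γ(X, W.1) (X.presheaf.stalk x) m ∈
        (Ideal.span {k}).map (algebraMap Γ(X, W.1) (X.presheaf.stalk x)) := by
      rw [hspan, ← hmap]
      exact Ideal.mem_map_of_mem _ (hG ▸ Ideal.subset_span hm)
    obtain ⟨t, ht, htm⟩ := (IsLocalization.algebraMap_mem_map_algebraMap_iff P.primeCompl _ _ _).1 h1
    exact ⟨t, ht, htm⟩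
  choose t ht htm using hkill
  let T := ∏ m ∈ G.attach, t m.1 m.2
  have hT : T ∉ P := by
    intro h
    obtain ⟨m, -, hm⟩ := (W.2.primeIdealOf ⟨x, hxW⟩).isPrime.prod_mem_iff.1 h
    exact ht _ _ hm
  let U : X.affineOpens := X.affineBasicOpen (U := W) T
  let ρ := (X.presheaf.map (homOfLE (X.basicOpen_le T)).op).hom
  have hxU : x ∈ U.1 := (Groth.Agent.QCoh.mem_basicOpen_iff_notMem W.2 hxW T).2 hT
  refine ⟨U, hxU, ρ k, ?_, ?_⟩
  · haveI : Nonempty (U.1 : Scheme.{u}) := ⟨⟨x, hxU⟩⟩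
    refine mem_nonZeroDivisors_iff_ne_zero.2 fun h0 => hg ?_
    have h1 : algebraMap Γ(X, W.1) (X.presheaf.stalk x) k = 0 := by
      have := congrArg (X.presheaf.germ U.1 x hxU) h0
      rw [map_zero] at this
      rw [← this]
      exact (X.presheaf.germ_res_apply (homOfLE (X.basicOpen_le T)) x hxU k).symm
    rw [← hks] at h1
    exact (IsLocalization.map_units _ s).mul_left_eq_zero.1 h1
  · rw [← I.map_ideal (U := U) (V := W) (X.basicOpen_le T), ← hG, Ideal.map_span]
    refine le_antisymm (Ideal.span_le.2 ?_) (Ideal.span_le.2 (Set.singleton_subset_iff.2 ?_))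
    · rintro _ ⟨m, hm, rfl⟩
      obtain ⟨c, hc⟩ := Ideal.mem_span_singleton'.1 (htm m hm)
      have hu : IsUnit (ρ (t m hm)) := by
        have h2 : IsUnit (ρ T) := RingedSpace.isUnit_res_basicOpen X.toLocallyRingedSpace.toRingedSpace T
        refine isUnit_of_dvd_unit (map_dvd ρ ?_) h2
        exact Finset.dvd_prod_of_mem (fun m : G => t m.1 m.2) (Finset.mem_attach G ⟨m, hm⟩)
      refine (Ideal.unit_mul_mem_iff_mem _ hu).1 ?_
      show ρ (t m hm) * ρ m ∈ Ideal.span {ρ k}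
      rw [← map_mul, ← hc, map_mul]
      exact Ideal.mul_mem_left _ _ (Ideal.mem_span_singleton_self _)
    · show ρ k ∈ Ideal.span (ρ '' G)
      rw [← Ideal.map_span]
      exact Ideal.mem_map_of_mem ρ (hG ▸ hk : k ∈ Submodule.span _ (G : Set Γ(X, W.1)))

theorem sI_ne_bot [IsIntegral X] {I : X.IdealSheafData} (hI : I ≠ ⊥) (x : X) : sI I x ≠ ⊥ := by
  intro h
  have hη : sI I (genericPoint X) = ⊥ := by
    rw [sI_spec I (genericPoint_specializes x), h, Ideal.map_bot]
  refine hI (ext_sI fun y => ?_)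
  rw [show sI (⊥ : X.IdealSheafData) y = ⊥ by
    rw [sI, Scheme.IdealSheafData.comap_bot, tI, Scheme.IdealSheafData.ideal_bot, Pi.bot_apply, Ideal.map_bot]]
  have h1 := sI_spec I (genericPoint_specializes y)
  rw [hη] at h1
  exact (Ideal.map_eq_bot_iff_of_injective
    (IsFractionRing.injective (X.presheaf.stalk y) X.functionField : Function.Injective
      (X.presheaf.stalkSpecializes (genericPoint_specializes y)).hom)).1 h1.symm

theorem closed_of_dim_two (hdim : topologicalKrullDim X ≤ 2) {z : X}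
    (hz : ringKrullDim (X.presheaf.stalk z) = 2) : IsClosed ({z} : Set X) := by
  refine isClosed_of_closure_subset fun w hw => ?_
  have hzw : z ⤳ w := specializes_iff_mem_closure.2 hw
  by_contra hne
  have hlt : w < z := lt_of_le_of_ne hzw hne
  have h1 := (SchTop.ringKrullDim_stalk_le w).trans hdim
  rw [ringKrullDim_stalk_eq_coheight w] at h1
  rw [ringKrullDim_stalk_eq_coheight z] at hz
  have hz' : Order.coheight z = 2 := WithBot.coe_eq_coe.1 (hz.trans (by rfl))
  have h1' : Order.coheight w ≤ 2 := WithBot.coe_le_coe.1 (h1.trans_eq (by rfl))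
  have h2 := Order.coheight_add_one_le hlt
  rw [hz'] at h2
  exact absurd (h2.trans h1') (by decide)

theorem finite_of_closed_points [NoetherianSpace X] {C : Set X} (hC : IsClosed C)
    (h : ∀ z ∈ C, IsClosed ({z} : Set X)) : C.Finite := by
  obtain ⟨S, hSf, hSi, hS⟩ := NoetherianSpace.exists_finite_set_isClosed_irreducible hC
  rw [hS.2]
  refine hSf.sUnion fun s hs => ?_
  obtain ⟨z, hz⟩ := QuasiSober.sober (hS.1 s hs) (hSi s hs)
  have hzC : z ∈ C := by rw [hS.2]; exact ⟨s, hs, hz.mem⟩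
  rw [← hz.def, (h z hzC).closure_eq]
  exact Set.finite_singleton z

end Groth.Agent.PointBlow
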