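import Mathlib
import Groth.Agent.PointBlow.Main
import Groth.Agent.PointBlow.CartierPart

/-!
# Making an ideal on a regular integral surface invertible
-/

set_option autoImplicit false
set_option linter.style.haveILetI false
set_option backward.isDefEq.respectTransparency false
set_option backward.isDefEq.respectTransparency.types false

universe u

open CategoryTheory CategoryTheory.Limits AlgebraicGeometry TopologicalSpace IsLocalRing
open Groth.Agent.H23.StalkIdeal

noncomputable section

namespace Groth.Agent.PointBlow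

/-- An ideal on a regular integral surface is a Cartier divisor times an ideal with finite support
at closed surface points. -/
theorem exists_cartier_factor (X : Scheme.{u}) [IsIntegral X] [IsNoetherian X]
    (hreg : ∀ x : X, IsRegularLocalRing (X.presheaf.stalk x)) (hdim : topologicalKrullDim X ≤ 2)
    (I : X.IdealSheafData) (hI : I ≠ ⊥) :
    ∃ (D J : X.IdealSheafData), BlowUp.IsEffCartierIdeal D ∧ I = J * D ∧ (J.support : Set X).Finite ∧
      ∀ y ∈ (J.support : Set X), IsClosed ({y} : Set X) ∧ IsRegularLocalRing (X.presheaf.stalk y) ∧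
        ringKrullDim (X.presheaf.stalk y) = 2 := by
  classical
  let U : X.Opens := ⟨{z | ∃ (V : X.affineOpens) (a : Γ(X, V.1)), z ∈ V.1 ∧
    a ∈ nonZeroDivisors Γ(X, V.1) ∧ I.ideal V = Ideal.span {a}}, isOpen_iff_forall_mem_open.2 fun z hz => by
      obtain ⟨V, a, hzV, ha, hV⟩ := hz
      exact ⟨V.1, fun w hw => ⟨V, a, hw, ha, hV⟩, V.1.2, hzV⟩⟩
  have hUmem : ∀ z, z ∉ U → ringKrullDim (X.presheaf.stalk z) = 2 := by
    intro z hz
    haveI := hreg z
    have hle : ringKrullDim (X.presheaf.stalk z) ≤ 2 := (SchTop.ringKrullDim_stalk_le z).trans hdim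
    by_contra hne
    haveI := (S2821.result (X.presheaf.stalk z)).1
    have hn : ((maximalIdeal (X.presheaf.stalk z)).spanFinrank : WithBot ℕ∞) = ringKrullDim (X.presheaf.stalk z) :=
      IsRegularLocalRing.spanFinrank_maximalIdeal (R := X.presheaf.stalk z)
    rw [← hn] at hle hne
    have h1 : (maximalIdeal (X.presheaf.stalk z)).spanFinrank ≤ 1 := by
      have h2 : (maximalIdeal (X.presheaf.stalk z)).spanFinrank ≤ 2 := by exact_mod_cast hle
      have h3 : (maximalIdeal (X.presheaf.stalk z)).spanFinrank ≠ 2 := fun h => hne (by rw [h]; rfl)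
      omega
    haveI : IsPrincipalIdealRing (X.presheaf.stalk z) := by
      refine ((tfae_of_isNoetherianRing_of_isLocalRing_of_isDomain (R := X.presheaf.stalk z)).out 4 0).1 ?_
      classical
      obtain ⟨G, hG, hspan⟩ := Submodule.FG.exists_span_finset_card_eq_spanFinrank (IsNoetherian.noetherian (maximalIdeal (X.presheaf.stalk z)))
      rcases Nat.le_one_iff_eq_zero_or_eq_one.1 (hG.trans_le h1) with h0 | h0
      · exact ⟨0, by rw [← hspan, Finset.card_eq_zero.1 h0]; simp⟩
      · obtain ⟨a, ha⟩ := Finset.card_eq_one.1 h0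
        exact ⟨a, by rw [← hspan, ha]; simp⟩
    obtain ⟨g, hg⟩ := IsPrincipalIdealRing.principal (sI I z)
    obtain ⟨V, hzV, a, ha, hV⟩ := exists_gen_nhd I (g := g) (fun h => sI_ne_bot hI z (hg.trans (Ideal.span_singleton_eq_bot.2 h))) hg
    exact hz ⟨V, a, hzV, ha, hV⟩
  have hclosed : ∀ z, z ∉ U → IsClosed ({z} : Set X) := fun z hz => closed_of_dim_two hdim (hUmem z hz)
  have hIU : BlowUp.IsEffCartierIdeal (I.comap U.ι) := by
    intro w
    obtain ⟨V, a, hwV, ha, hV⟩ := w.2
    change U.ι w ∈ V.1 at hwV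
    have hle : V.1 ≤ U := fun y hy => ⟨V, a, hy, ha, hV⟩
    haveI : Nonempty U := ⟨w⟩
    haveI : IsIntegral U.toScheme := isIntegral_of_isOpenImmersion U.ι
    have hgen := exists_gen_nhd (X := U.toScheme) (I := I.comap U.ι) (x := w)
      (g := U.ι.stalkMap w (X.presheaf.germ V.1 (U.ι w) hwV a)) ?_ ?_
    · obtain ⟨W, hwW, b, hb, hW⟩ := hgen
      exact ⟨W, hwW, b, hb, hW⟩
    · intro h
      have h1 := (ConcreteCategory.bijective_of_isIso (U.ι.stalkMap w)).1 (h.trans (map_zero _).symm)
      exact (nonZeroDivisors.ne_zero (CDivEq.germ_mem_nonZeroDivisors V hwV ha)) h1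
    · rw [sI_comap, sI_eq I V hwV, CDivEq.stk, hV, Ideal.map_span, Set.image_singleton, Ideal.map_span,
        Set.image_singleton]
  let D := (I.comap U.ι).map U.ι
  have hD : BlowUp.IsEffCartierIdeal D := isEffCartier_map U _ hIU fun x _ => by
    haveI := hreg x
    exact S2821.result (X.presheaf.stalk x)
  have hID : I ≤ D := Scheme.IdealSheafData.le_map_comap I U.ι
  obtain ⟨J, hJ⟩ : ∃ J, I = J * D := ⟨_, (ModPairLib.colon_mul hD hID).symm⟩
  have hsupp : (J.support : Set X) ⊆ (U : Set X)ᶜ := by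
    intro z hz hzU
    refine (mem_support_iff J z).1 hz ?_
    obtain ⟨g, hg, hgD⟩ := exists_gen hD z
    have h1 : sI I z = sI D z := by
      have h2 : sI (D.comap U.ι) ⟨z, hzU⟩ = sI (I.comap U.ι) ⟨z, hzU⟩ := by
        rw [CartExt.comap_map_ι]
      rw [sI_comap, sI_comap] at h2
      have hb := ConcreteCategory.bijective_of_isIso (U.ι.stalkMap ⟨z, hzU⟩)
      have h3 := congrArg (Ideal.comap (U.ι.stalkMap ⟨z, hzU⟩).hom) h2
      erw [Ideal.comap_map_of_bijective _ hb, Ideal.comap_map_of_bijective _ hb] at h3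
      exact h3.symm
    have h4 := congrArg (fun K => sI K z) hJ
    simp only [sI_mul] at h4
    rw [h1, hgD] at h4
    obtain ⟨c, hc, hcg⟩ := Ideal.mem_mul_span_singleton.1 (h4.le (Ideal.mem_span_singleton_self g))
    have h5 : (c - 1) * g = 0 := by rw [sub_mul, one_mul, hcg, sub_self]
    rw [(Ideal.eq_top_iff_one _)]
    rwa [← sub_eq_zero.1 (mem_nonZeroDivisors_iff_right.1 hg _ h5)]
  refine ⟨D, J, hD, hJ, (finite_of_closed_points J.support.isClosed fun z hz => hclosed z (hsupp hz)), fun y hy =>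
    ⟨hclosed y (hsupp hy), hreg y, hUmem y (hsupp hy)⟩⟩

end Groth.Agent.PointBlow
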